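import Groth.Agent.AbSubobject.Lattice
import Mathlib.CategoryTheory.Subobject.NoetherianObject
import Mathlib.CategoryTheory.Abelian.GrothendieckCategory.Subobject
import Mathlib.CategoryTheory.Abelian.Subobject
import Mathlib.CategoryTheory.Adjunction.Limits
import Mathlib.CategoryTheory.Generator.Basic
import Mathlib.CategoryTheory.Functor.ReflectsIso.Balanced

set_option autoImplicit false
universe w v₁ v₂ u₁ u₂
open CategoryTheory CategoryTheory.Limits

namespace Groth.Agent.AbTransfer

section NoethLemmas
variable {C : Type u₁} [Category.{v₁} C] [Abelian C]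

lemma noeth_iff (X : C) : IsNoetherianObject X ↔ WellFoundedGT (Subobject X) :=
  isNoetherianObject.is_iff X

lemma noeth_of_epi {Y Z : C} (e : Y ⟶ Z) [Epi e] [IsNoetherianObject Y] :
    IsNoetherianObject Z := by
  rw [noeth_iff]
  refine StrictMono.wellFoundedGT (f := fun P : Subobject Z => (Subobject.pullback e).obj P) ?_
  intro P Q h
  refine lt_of_le_not_ge ((Subobject.pullback e).monotone h.le) fun h' => h.not_ge ?_
  rw [AbSubobject.Lattice.le_iff_factors]
  obtain ⟨R, π, hπ, x, hx⟩ := surjective_up_to_refinements_of_epi e Q.arrow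
  have h1 : ((Subobject.pullback e).obj Q).Factors x :=
    (Limits.pullback_factors_iff _ _ _).2 (by rw [← hx]; exact Subobject.factors_comp_arrow _)
  have h2 := (Limits.pullback_factors_iff _ _ _).1 (Subobject.factors_of_le _ h' h1)
  rw [← hx] at h2
  exact AbSubobject.Lattice.factors_of_epi P π _ h2

lemma noeth_sup {X : C} (a b : Subobject X) [IsNoetherianObject (a : C)]
    [IsNoetherianObject (b : C)] : IsNoetherianObject ((a ⊔ b : Subobject X) : C) := by
  haveI : WellFoundedGT (Set.Iic a) := (Subobject.subobjectOrderIso a).symm.strictMono.wellFoundedGT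
  haveI : WellFoundedGT (Set.Iic b) := (Subobject.subobjectOrderIso b).symm.strictMono.wellFoundedGT
  rw [noeth_iff]
  haveI : WellFoundedGT (Set.Iic (a ⊔ b)) := by
    refine StrictMono.wellFoundedGT
      (f := fun x : Set.Iic (a ⊔ b) => ((⟨x.1 ⊓ a, Set.mem_Iic.2 inf_le_right⟩ : Set.Iic a),
        (⟨(x.1 ⊔ a) ⊓ b, Set.mem_Iic.2 inf_le_right⟩ : Set.Iic b))) ?_
    intro x y hxy
    have hxy' : x.1 < y.1 := hxy
    refine lt_of_le_not_ge ⟨inf_le_inf_right _ hxy'.le, inf_le_inf_right _ (sup_le_sup_right hxy'.le _)⟩ ?_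
    rintro ⟨h1, h2⟩
    have h1' : y.1 ⊓ a ≤ x.1 ⊓ a := h1
    have h2' : (y.1 ⊔ a) ⊓ b ≤ (x.1 ⊔ a) ⊓ b := h2
    have hrec : ∀ z : Set.Iic (a ⊔ b), z.1 ⊔ a = ((z.1 ⊔ a) ⊓ b) ⊔ a := by
      intro z
      rw [inf_sup_assoc_of_le b le_sup_right, inf_eq_left.2 (sup_le (z.2.trans (by rw [sup_comm])) le_sup_right)]
    have h3 : y.1 ⊔ a ≤ x.1 ⊔ a := by
      rw [hrec x, hrec y]; exact sup_le_sup_right h2' _
    exact hxy'.ne (eq_of_le_of_inf_le_of_sup_le hxy'.le h1' h3)
  exact (Subobject.subobjectOrderIso (a ⊔ b)).strictMono.wellFoundedGT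

end NoethLemmas

variable {A : Type u₁} [Category.{v₁} A] [Abelian A] {B : Type u₂} [Category.{v₂} B] [Abelian B]
  (F : A ⥤ B) [F.Additive] [F.Faithful] [PreservesFiniteLimits F] [PreservesFiniteColimits F]

noncomputable def subMap (X : A) (P : Subobject X) : Subobject (F.obj X) :=
  Subobject.mk (F.map P.arrow)

lemma subMap_le_iff {X : A} (P Q : Subobject X) : subMap F X P ≤ subMap F X Q ↔ P ≤ Q := by
  constructor
  · intro h
    have h0 : P.arrow ≫ cokernel.π Q.arrow = 0 := by
      apply F.map_injective
      rw [F.map_comp, ← Subobject.ofMkLEMk_comp h, Category.assoc, ← F.map_comp, cokernel.condition,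
        F.map_zero, comp_zero, F.map_zero]
    exact Subobject.le_of_comm (Abelian.monoLift Q.arrow P.arrow h0) (Abelian.monoLift_comp _ _ _)
  · intro h
    exact Subobject.mk_le_mk_of_comm (F.map (Subobject.ofLE _ _ h)) (by rw [← F.map_comp, Subobject.ofLE_arrow])

lemma subMap_strictMono (X : A) : StrictMono (subMap F X) := fun _ _ h => by
  simpa [lt_iff_le_not_ge, subMap_le_iff] using lt_iff_le_not_ge.1 h

include F in
lemma noeth_of_map (X : A) [IsNoetherianObject (F.obj X)] : IsNoetherianObject X :=
  (noeth_iff X).2 (subMap_strictMono F X).wellFoundedGT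

include F in
lemma small_subobject [LocallySmall.{w} A] [LocallySmall.{w} B] [WellPowered.{w} B] (X : A) :
    Small.{w} (Subobject X) :=
  small_of_injective (f := subMap F X) (fun P Q h =>
    le_antisymm ((subMap_le_iff F P Q).1 h.le) ((subMap_le_iff F Q P).1 h.ge))

lemma ab5 [HasColimitsOfSize.{w, w} A] [HasColimitsOfSize.{w, w} B] [AB5OfSize.{w, w} B]
    {G : B ⥤ A} (adj : F ⊣ G) : AB5OfSize.{w, w} A := by
  haveI := adj.leftAdjoint_preservesColimits.{w, w}
  haveI : F.ReflectsIsomorphisms := inferInstance
  haveI : ReflectsFiniteLimits F := ⟨fun J _ _ =>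
    reflectsLimitsOfShape_of_reflectsIsomorphisms⟩
  refine ⟨fun J _ _ => ?_⟩
  exact HasExactColimitsOfShape.domain_of_functor J F

section Union

variable {G : B ⥤ A} (adj : F ⊣ G)
variable {J : Type w} [SmallCategory J] [IsFiltered J] [HasColimitsOfShape J A]
  [HasExactColimitsOfShape J A] [PreservesColimitsOfShape J G]
variable {X : A} {N : J ⥤ B} {c : Cocone N}

/-- the part of `X` over the stage `j` -/
noncomputable def part (f : ∀ j, N.obj j ⟶ F.obj X) (j : J) : A :=
  pullback (adj.unit.app X) (G.map (f j))

attribute [local instance] IsFiltered.isConnected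

omit [F.Additive] [F.Faithful] [PreservesFiniteLimits F] [PreservesFiniteColimits F] in
lemma eq_of_parts (α : N ⟶ (Functor.const J).obj (F.obj X))
    (hα : IsColimit (Cocone.mk (F.obj X) α)) {Y : A} (f g : X ⟶ Y)
    (h : ∀ j, (pullback.fst (adj.unit.app X) (G.map (α.app j)) : _ ⟶ X) ≫ f = pullback.fst _ _ ≫ g) :
    f = g := by
  let η : (Functor.const J).obj X ⟶ (Functor.const J).obj (G.obj (F.obj X)) :=
    (Functor.const J).map (adj.unit.app X)
  let β : N ⋙ G ⟶ (Functor.const J).obj (G.obj (F.obj X)) :=
    { app := fun j => G.map (α.app j)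
      naturality := fun j k u => by
        have := α.naturality u
        simp only [Functor.const_obj_map, Category.comp_id] at this
        simp [← G.map_comp, this] }
  have hP : IsPullback (colim.map (pullback.fst η β)) (colim.map (pullback.snd η β))
      (colim.map η) (colim.map β) :=
    (IsPullback.of_hasPullback η β).map colim
  have hβ : IsIso (colim.map β) := by
    let e1 := (colimit.isColimit (N ⋙ G)).coconePointUniqueUpToIso (isColimitOfPreserves G hα)
    let e2 := (colimit.isColimit ((Functor.const J).obj (G.obj (F.obj X)))).coconePointUniqueUpToIso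
      (isColimitConstCocone J (G.obj (F.obj X)))
    have : colim.map β = e1.hom ≫ e2.inv := by
      rw [Iso.eq_comp_inv]
      apply colimit.hom_ext
      intro j
      simp [e1, e2, β]
      erw [IsColimit.comp_coconePointUniqueUpToIso_hom, Category.comp_id]
    rw [this]; infer_instance
  haveI : IsIso (colim.map (pullback.fst η β)) := hP.isIso_fst_of_isIso
  let e := (colimit.isColimit ((Functor.const J).obj X)).coconePointUniqueUpToIso
    (isColimitConstCocone J X)
  have key : colim.map (pullback.fst η β) ≫ e.hom ≫ f = colim.map (pullback.fst η β) ≫ e.hom ≫ g := by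
    apply colimit.hom_ext
    intro j
    let q := ((evaluation J A).obj j).map (pullback.fst η β)
    have hsq : q ≫ adj.unit.app X = (pullback.snd η β).app j ≫ G.map (α.app j) := by
      have := congr_app (pullback.condition (f := η) (g := β)) j
      simpa [q, η, β] using this
    have hl : (pullback.fst η β).app j = pullback.lift q ((pullback.snd η β).app j) hsq ≫
        pullback.fst (adj.unit.app X) (G.map (α.app j)) := by rw [pullback.lift_fst]; rfl
    simp [e, hl]
    exact congrArg (pullback.lift q _ hsq ≫ ·) (by erw [Category.id_comp, Category.id_comp]; exact h j)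
  exact (cancel_epi e.hom).1 ((cancel_epi _).1 key)

omit [F.Additive] [F.Faithful] [PreservesFiniteColimits F] in
lemma exists_mono {j : B} (i : j ⟶ F.obj X) [Mono i] :
    ∃ m : F.obj (pullback (adj.unit.app X) (G.map i)) ⟶ j, Mono m := by
  haveI : G.IsRightAdjoint := adj.isRightAdjoint
  haveI : Mono (G.map i) := inferInstance
  refine ⟨F.map (pullback.snd _ _) ≫ adj.counit.app j, ?_⟩
  have : (F.map (pullback.snd (adj.unit.app X) (G.map i)) ≫ adj.counit.app j) ≫ i =
      F.map (pullback.fst _ _) := by
    rw [Category.assoc]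
    erw [← adj.counit_naturality i]
    rw [← F.map_comp_assoc, ← pullback.condition,
      F.map_comp]
    erw [Category.assoc, adj.left_triangle_components, Category.comp_id]
  exact mono_of_mono_fac this

end Union

end Groth.Agent.AbTransfer
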