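import Groth.Agent.AbTransfer.Basic
import Mathlib.CategoryTheory.Limits.Preserves.Filtered

set_option autoImplicit false
universe w u₁ u₂
open CategoryTheory CategoryTheory.Limits

namespace Groth.Agent.AbTransfer

variable {A : Type u₁} [Category.{w} A] [Abelian A] [HasColimitsOfSize.{w, w} A]
  {B : Type u₂} [Category.{w} B] [Abelian B] [IsGrothendieckAbelian.{w} B]
  {F : A ⥤ B} [F.Additive] [F.Faithful] [PreservesFiniteLimits F] [PreservesFiniteColimits F]
  {G : B ⥤ A} (adj : F ⊣ G) [PreservesFilteredColimitsOfSize.{w, w} G]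
  {ι : Type w} (s : ι → B)

/-- the subobject spanned by a finite set of morphisms from the generators -/
noncomputable def span (Z : B) : Finset (Σ i : ι, (s i ⟶ Z)) →o Subobject Z :=
  ⟨fun S => S.sup (fun p => imageSubobject p.2), fun _ _ h => Finset.sup_mono h⟩

lemma span_noeth (hsN : ∀ i, IsNoetherianObject (s i)) (Z : B)
    (S : Finset (Σ i : ι, (s i ⟶ Z))) : IsNoetherianObject (span s Z S : B) := by
  classical
  unfold span
  induction S using Finset.induction with
  | empty =>
    apply isNoetherianObject_of_isZero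
    exact (isZero_zero B).of_iso (Subobject.botCoeIsoZero (B := Z))
  | insert p S _ ih =>
    haveI := hsN p.1
    haveI : Epi (factorThruImageSubobject p.2) := by dsimp [factorThruImageSubobject]; infer_instance
    haveI := noeth_of_epi (factorThruImageSubobject p.2)
    haveI := ih
    simp only [OrderHom.coe_mk, Finset.sup_insert]
    exact noeth_sup _ _

/-- every span is a quotient of a finite coproduct of generators -/
lemma span_quot (Z : B) (S : Finset (Σ i : ι, (s i ⟶ Z))) :
    ∃ (n : ℕ) (g : Fin n → ι) (d : (∐ fun k => s (g k)) ⟶ (span s Z S : B)), Epi d := by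
  let e := S.equivFin.symm
  let m : ∀ k, s (e k).1.1 ⟶ Z := fun k => (e k).1.2
  let D : (∐ fun k => s (e k).1.1) ⟶ Z := Sigma.desc m
  have hle : span s Z S ≤ imageSubobject D := by
    refine Finset.sup_le fun p hp => ?_
    obtain ⟨k, hk⟩ := e.surjective ⟨p, hp⟩
    have : p = (e k).1 := by rw [hk]
    subst this
    refine imageSubobject_le _ (Sigma.ι (fun k => s (e k).1.1) k ≫ factorThruImageSubobject D) ?_
    simp [D, m]
  have hge : imageSubobject D ≤ span s Z S := by
    refine imageSubobject_le _ (Sigma.desc fun k => factorThruImageSubobject (m k) ≫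
      Subobject.ofLE _ _ (Finset.le_sup (f := fun p : (Σ i : ι, (s i ⟶ Z)) => imageSubobject p.2) (e k).2)) ?_
    apply Limits.Sigma.hom_ext
    intro k
    simp [D, m]
  haveI : Epi (factorThruImageSubobject D) := by dsimp [factorThruImageSubobject]; infer_instance
  haveI : IsIso (Subobject.ofLE _ _ hge) :=
    ⟨Subobject.ofLE _ _ hle, by simp, by simp⟩
  exact ⟨_, fun k => (e k).1.1, factorThruImageSubobject D ≫ Subobject.ofLE _ _ hge, epi_comp _ _⟩

lemma iSup_span (hsep : ∀ ⦃X Y : B⦄ (f g : X ⟶ Y),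
      (∀ (i : ι) (h : s i ⟶ X), h ≫ f = h ≫ g) → f = g) (Z : B) :
    (⊤ : Subobject Z) = ⨆ S, span s Z S := by
  classical
  refine (le_antisymm ?_ le_top)
  set P := ⨆ S, span s Z S
  have : Epi P.arrow := by
    apply Abelian.epi_of_cokernel_π_eq_zero
    apply hsep
    intro i h
    have hle : imageSubobject h ≤ P :=
      le_trans (by simp [span]) (le_iSup (span s Z) {(⟨i, h⟩ : Σ i : ι, (s i ⟶ Z))})
    rw [comp_zero, ← imageSubobject_arrow_comp h, Category.assoc, ← Subobject.ofLE_arrow hle,
      Category.assoc, cokernel.condition, comp_zero, comp_zero]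
  haveI : IsIso P.arrow := isIso_of_mono_of_epi _
  exact (Subobject.isIso_arrow_iff_eq_top P).1 inferInstance ▸ le_rfl

omit [F.Additive] [F.Faithful] [PreservesFiniteLimits F] [PreservesFiniteColimits F] in
lemma eq_of_spans (hsep : ∀ ⦃X Y : B⦄ (f g : X ⟶ Y),
      (∀ (i : ι) (h : s i ⟶ X), h ≫ f = h ≫ g) → f = g)
    [AB5OfSize.{w, w} A] {X Y : A} (f g : X ⟶ Y)
    (h : ∀ S, (pullback.fst (adj.unit.app X) (G.map (span s (F.obj X) S).arrow) : _ ⟶ X) ≫ f =
      pullback.fst _ _ ≫ g) : f = g := by
  classical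
  let FM : Finset (Σ i : ι, (s i ⟶ F.obj X)) ⥤ MonoOver (F.obj X) :=
    (span s (F.obj X)).monotone.functor ⋙ Subobject.representative
  let c : Cocone (FM ⋙ MonoOver.forget _) :=
    { pt := Over.mk (𝟙 _)
      ι :=
        { app := fun S => Over.homMk (FM.obj S).obj.hom (by simp [MonoOver.forget])
          naturality := fun S T u => by
            apply Over.OverMorphism.ext
            simp [MonoOver.forget] } }
  haveI : Mono c.pt.hom := by dsimp [c]; infer_instance
  have htop : Subobject.mk c.pt.hom = ⨆ S, Subobject.mk (FM.obj S).obj.hom := by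
    have e : ∀ S, Subobject.mk (FM.obj S).obj.hom = span s (F.obj X) S := fun S =>
      Subobject.mk_arrow _
    simp only [e]
    rw [← iSup_span s hsep]
    exact (Subobject.isIso_iff_mk_eq_top _).1 (by dsimp [c]; infer_instance)
  have hc := IsGrothendieckAbelian.isColimitMapCoconeOfSubobjectMkEqISup FM c htop
  exact eq_of_parts F adj (N := FM ⋙ MonoOver.forget _ ⋙ Over.forget _)
    ((Over.forget _).mapCocone c).ι hc f g (fun S => h S)

omit [F.Additive] [F.Faithful] [PreservesFiniteColimits F] [PreservesFilteredColimitsOfSize.{w, w} G]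
  [HasColimitsOfSize.{w, w} A] in
lemma span_part_mono (X : A) (S : Finset (Σ i : ι, (s i ⟶ F.obj X))) :
    ∃ m : F.obj (pullback (adj.unit.app X) (G.map (span s (F.obj X) S).arrow)) ⟶ (span s (F.obj X) S : B),
      Mono m :=
  exists_mono F adj (span s (F.obj X) S).arrow

include adj in
theorem noeth_map (hsN : ∀ i, IsNoetherianObject (s i))
    (hsep : ∀ ⦃X Y : B⦄ (f g : X ⟶ Y), (∀ (i : ι) (h : s i ⟶ X), h ≫ f = h ≫ g) → f = g)
    [AB5OfSize.{w, w} A] (X : A) [IsNoetherianObject X] : IsNoetherianObject (F.obj X) := by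
  classical
  haveI : G.IsRightAdjoint := adj.isRightAdjoint
  let P : Finset (Σ i : ι, (s i ⟶ F.obj X)) → Subobject X := fun S =>
    Subobject.mk (pullback.fst (adj.unit.app X) (G.map (span s (F.obj X) S).arrow))
  have hmono : Monotone P := by
    intro S T hST
    refine Subobject.mk_le_mk_of_comm
      (pullback.map _ _ _ _ (𝟙 _) (G.map (Subobject.ofLE _ _ ((span s (F.obj X)).monotone hST))) (𝟙 _)
        (by simp) (by simp [← G.map_comp])) ?_
    simp [pullback.map]
    erw [pullback.lift_fst]
  obtain ⟨_, ⟨S₀, rfl⟩, hmax⟩ := wellFounded_gt.has_min (Set.range P) ⟨_, ∅, rfl⟩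
  have hub : ∀ S, P S ≤ P S₀ := by
    intro S
    have h1 := hmono (Finset.subset_union_left : S₀ ⊆ S₀ ∪ S)
    have h2 : P (S₀ ∪ S) = P S₀ := (h1.lt_or_eq.resolve_left (hmax _ ⟨_, rfl⟩)).symm
    exact h2 ▸ hmono Finset.subset_union_right
  let i₀ := pullback.fst (adj.unit.app X) (G.map (span s (F.obj X) S₀).arrow)
  have : Epi i₀ := by
    apply Abelian.epi_of_cokernel_π_eq_zero
    refine eq_of_spans adj s hsep _ _ fun S => ?_
    rw [comp_zero]
    erw [← Subobject.ofMkLEMk_comp (hub S)]
    rw [Category.assoc]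
    exact (congrArg (_ ≫ ·) (cokernel.condition i₀)).trans comp_zero
  haveI : IsIso i₀ := isIso_of_mono_of_epi _
  obtain ⟨m, hm⟩ := span_part_mono adj s X S₀
  haveI := span_noeth s hsN (F.obj X) S₀
  exact isNoetherianObject_of_mono ((F.mapIso (asIso i₀)).inv ≫ m)

/-- a set of quotients of finite coproducts of generators, with subobjects of their direct images -/
abbrev Cand (G : B ⥤ A) : Type (max w u₁ u₂) :=
  Σ (n : ℕ) (g : Fin n → ι) (K : Subobject (∐ fun k => s (g k))), Subobject (G.obj (cokernel K.arrow))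

noncomputable abbrev Cand.ob {G : B ⥤ A} (k : Cand s G) : A := (k.2.2.2 : A)

omit [F.Additive] [PreservesFiniteColimits F] [PreservesFilteredColimitsOfSize.{w, w} G]
  [HasColimitsOfSize.{w, w} A] in
include adj in
lemma exists_cand (X : A) (S : Finset (Σ i : ι, (s i ⟶ F.obj X))) :
    ∃ k : Cand s G, Nonempty (k.ob ≅ pullback (adj.unit.app X) (G.map (span s (F.obj X) S).arrow)) := by
  haveI : G.IsRightAdjoint := adj.isRightAdjoint
  obtain ⟨n, g, d, hd⟩ := span_quot s (F.obj X) S
  let K := kernelSubobject d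
  let e0 : cokernel K.arrow ≅ (span s (F.obj X) S : B) :=
    cokernelIsoOfEq (kernelSubobject_arrow d).symm ≪≫ cokernelEpiComp _ _ ≪≫
      ((Abelian.epiIsCokernelOfKernel (KernelFork.ofι (kernel.ι d) (kernel.condition d))
        (kernelIsKernel d)).coconePointUniqueUpToIso (cokernelIsCokernel (kernel.ι d))).symm
  haveI : Mono (F.map (adj.unit.app X)) :=
    (SplitMono.mk (adj.counit.app (F.obj X)) (adj.left_triangle_components X)).mono
  haveI : Mono (adj.unit.app X) := ⟨fun {Z} g h e => F.map_injective ((cancel_mono (F.map (adj.unit.app X))).1 (by rw [← F.map_comp, ← F.map_comp, e]))⟩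
  refine ⟨⟨n, g, K, Subobject.mk (pullback.snd (adj.unit.app X) (G.map (span s (F.obj X) S).arrow) ≫
    (G.mapIso e0).inv)⟩, ⟨Subobject.underlyingIso _⟩⟩

include F in
lemma small_cand : Small.{w} (Cand s G) := by
  haveI : WellPowered.{w} B := inferInstance
  haveI : ∀ X : A, Small.{w} (Subobject X) := fun X => small_subobject.{w} F X
  infer_instance

end Groth.Agent.AbTransfer
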